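import Groth.Agent.Lib.HProj12.Basic
import Groth.Agent.Lib.VeryAmple11.FT
import Groth.Agent.S4421
import Groth.Agent.S4420
import Groth.Agent.S4373
import Groth.Agent.S4414
import Groth.Agent.S2359
import Groth.Agent.S2332
import Groth.Agent.S12473

/-!
# Locally projective and locally quasi-projective morphisms
-/

set_option autoImplicit false
set_option linter.style.haveILetI false
set_option backward.isDefEq.respectTransparency false
set_option backward.isDefEq.respectTransparency.types false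

universe u

open CategoryTheory Limits AlgebraicGeometry

namespace Groth.Agent.HProj12

variable {X S : Scheme.{u}}

/-- Restriction over a smaller open as a base change. -/
theorem exists_iso_restrict (f : X ⟶ S) {U V : S.Opens} (h : V ≤ U) :
    ∃ e : ((f ⁻¹ᵁ V : X.Opens) : Scheme.{u}) ≅ pullback (f ∣_ U) (S.homOfLE h),
      e.hom ≫ pullback.snd (f ∣_ U) (S.homOfLE h) = f ∣_ V := by
  have sq : IsPullback (f ∣_ V) (X.homOfLE (f.preimage_mono h)) (S.homOfLE h) (f ∣_ U) := by
    refine IsPullback.of_bot ?_ ?_ (isPullback_morphismRestrict f U)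
    · simpa using isPullback_morphismRestrict f V
    · rw [← cancel_mono U.ι]; simp [morphismRestrict_ι]
  exact ⟨sq.flip.isoPullback, sq.flip.isoPullback_hom_snd⟩

theorem isProjective_iso_comp {X' : Scheme.{u}} (e : X' ≅ X) {f : X ⟶ S} (hf : RelProj.IsProjective f) :
    RelProj.IsProjective (e.hom ≫ f) :=
  QuotProj11.isProjective_comp_of_isClosedImmersion e.hom hf

theorem isProjective_restrict (f : X ⟶ S) {U V : S.Opens} (h : V ≤ U) (hf : RelProj.IsProjective (f ∣_ U)) :
    RelProj.IsProjective (f ∣_ V) := by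
  obtain ⟨e, he⟩ := exists_iso_restrict f h
  rw [← he]
  exact isProjective_iso_comp e (Groth.Agent.S4421.result _ hf _)

theorem isQuasiProjective_restrict (f : X ⟶ S) {U V : S.Opens} (h : V ≤ U) (hf : RelProj.IsQuasiProjective (f ∣_ U)) :
    RelProj.IsQuasiProjective (f ∣_ V) := by
  obtain ⟨e, he⟩ := exists_iso_restrict f h
  rw [← he]
  obtain ⟨h1, h2, L, hL⟩ := hf
  exact ⟨inferInstance, inferInstance, _,
    Groth.Agent.S2359.result _ e.hom e.hom.isOpenEmbedding.isEmbedding _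
      (Groth.Agent.S2332.result (f ∣_ U) (S.homOfLE h) L hL)⟩

theorem isHQuasiProjective_baseChange {S' : Scheme.{u}} (f : X ⟶ S) (hf : RelProj.IsHQuasiProjective f)
    (g : S' ⟶ S) : RelProj.IsHQuasiProjective (pullback.snd f g) := by
  obtain ⟨n, i, hi, hq, hif⟩ := hf
  have sq := ProjSpace.isPullback_overMap n g
  let i' : pullback f g ⟶ CohB1.ProjSpaceOver n S' := sq.lift (pullback.fst f g ≫ i) (pullback.snd f g)
    (by rw [Category.assoc, hif, pullback.condition])
  have h : IsPullback (pullback.fst f g) i' i (ProjSpace.overMap n g) := by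
    refine IsPullback.of_bot ?_ (sq.lift_fst _ _ _).symm sq
    rw [sq.lift_snd, hif]
    exact IsPullback.of_hasPullback f g
  exact ⟨n, i', MorphismProperty.of_isPullback h hi, MorphismProperty.of_isPullback h hq, sq.lift_snd _ _ _⟩

theorem isHQuasiProjective_restrict (f : X ⟶ S) {U V : S.Opens} (h : V ≤ U)
    (hf : RelProj.IsHQuasiProjective (f ∣_ U)) : RelProj.IsHQuasiProjective (f ∣_ V) := by
  obtain ⟨e, he⟩ := exists_iso_restrict f h
  rw [← he]
  obtain ⟨n, i, hi, hq, hif⟩ := isHQuasiProjective_baseChange (f ∣_ U) hf (S.homOfLE h)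
  exact ⟨n, e.hom ≫ i, inferInstance, inferInstance, by rw [Category.assoc, hif]⟩

theorem exists_isAmple (V : Scheme.{u}) [IsAffine V] : ∃ M : V.Modules, CohB1.IsAmple M :=
  ⟨Coh.structureModule V, Groth.Agent.S4373.result V _ (PicLoc.isInvertible_structureModule V)⟩

theorem isLocallyProjective_iff (f : X ⟶ S) :
    RelProj.IsLocallyProjective f ↔ ∀ s : S, ∃ U : S.Opens, s ∈ U ∧ RelProj.IsHProjective (f ∣_ U) := by
  refine ⟨fun h s => ?_, fun h s => ?_⟩
  · obtain ⟨U, hsU, hU⟩ := h s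
    obtain ⟨V, hV, hsV, hVU⟩ := exists_isAffineOpen_mem_and_subset (X := S) (x := s) (U := U) hsU
    haveI : IsAffine (V : Scheme.{u}) := hV
    exact ⟨V, hsV, (Groth.Agent.S4420.result (exists_isAmple _) _).1 (isProjective_restrict f hVU hU)⟩
  · obtain ⟨U, hsU, hU⟩ := h s
    exact ⟨U, hsU, QuotProj11.isProjective_of_isHProjective hU⟩

theorem locally_quasiProjective_iff (f : X ⟶ S) :
    (∀ s : S, ∃ U : S.Opens, s ∈ U ∧ RelProj.IsQuasiProjective (f ∣_ U)) ↔
      (∀ s : S, ∃ U : S.Opens, s ∈ U ∧ RelProj.IsHQuasiProjective (f ∣_ U)) := by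
  refine ⟨fun h s => ?_, fun h s => ?_⟩
  · obtain ⟨U, hsU, hU⟩ := h s
    obtain ⟨V, hV, hsV, hVU⟩ := exists_isAffineOpen_mem_and_subset (X := S) (x := s) (U := U) hsU
    haveI : IsAffine (V : Scheme.{u}) := hV
    obtain ⟨h1, h2, r, i, hi, hif⟩ :=
      (Groth.Agent.S4414.result (exists_isAmple _) _).1 (isQuasiProjective_restrict f hVU hU)
    haveI : IsSeparated (CohB1.ProjSpaceOver.toBase r (V : Scheme.{u})) :=
      (QuotProj11.isProper_of_isHProjective ⟨r, 𝟙 _, inferInstance, Category.id_comp _⟩).toIsSeparated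
    haveI : QuasiCompact (i ≫ CohB1.ProjSpaceOver.toBase r (V : Scheme.{u})) := hif ▸ h2
    exact ⟨V, hsV, r, i, hi, QuasiCompact.of_comp i (CohB1.ProjSpaceOver.toBase r (V : Scheme.{u})), hif⟩
  · obtain ⟨U, hsU, hU⟩ := h s
    obtain ⟨V, hV, hsV, hVU⟩ := exists_isAffineOpen_mem_and_subset (X := S) (x := s) (U := U) hsU
    haveI : IsAffine (V : Scheme.{u}) := hV
    obtain ⟨n, i, hi, hq, hif⟩ := isHQuasiProjective_restrict f hVU hU
    haveI : IsProper (CohB1.ProjSpaceOver.toBase n (V : Scheme.{u})) :=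
      QuotProj11.isProper_of_isHProjective ⟨n, 𝟙 _, inferInstance, Category.id_comp _⟩
    haveI : LocallyOfFiniteType i := inferInstance
    refine ⟨V, hsV, (Groth.Agent.S4414.result (exists_isAmple _) _).2 ⟨?_, ?_, n, i, hi, hif⟩⟩
    · rw [← hif]; infer_instance
    · rw [← hif]; infer_instance

theorem isLocallyProjective_baseChange {S' : Scheme.{u}} (f : X ⟶ S) (hf : RelProj.IsLocallyProjective f)
    (g : S' ⟶ S) : RelProj.IsLocallyProjective (pullback.snd f g) := by
  intro s'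
  obtain ⟨U, hU, hp⟩ := hf (g s')
  refine ⟨g ⁻¹ᵁ U, hU, ?_⟩
  have h1 : IsPullback (((pullback.snd f g) ⁻¹ᵁ (g ⁻¹ᵁ U)).ι ≫ pullback.fst f g)
      (pullback.snd f g ∣_ (g ⁻¹ᵁ U)) f ((g ∣_ U) ≫ U.ι) := by
    rw [morphismRestrict_ι]
    exact (isPullback_morphismRestrict _ _).flip.paste_horiz (IsPullback.of_hasPullback f g)
  have hr : Set.range ((((pullback.snd f g) ⁻¹ᵁ (g ⁻¹ᵁ U)).ι ≫ pullback.fst f g : _ ⟶ X)) ⊆
      Set.range (f ⁻¹ᵁ U).ι := by
    rintro _ ⟨x, rfl⟩
    rw [Scheme.Opens.range_ι]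
    show f ((((pullback.snd f g) ⁻¹ᵁ (g ⁻¹ᵁ U)).ι ≫ pullback.fst f g) x) ∈ U
    rw [← Scheme.Hom.comp_apply, h1.w, Scheme.Hom.comp_apply]
    exact (((g ∣_ U) ((pullback.snd f g ∣_ (g ⁻¹ᵁ U)) x)) : U).2
  have sq : IsPullback (IsOpenImmersion.lift (f ⁻¹ᵁ U).ι _ hr) (pullback.snd f g ∣_ (g ⁻¹ᵁ U)) (f ∣_ U) (g ∣_ U) := by
    refine IsPullback.of_right ?_ ?_ (isPullback_morphismRestrict f U).flip
    · rw [IsOpenImmersion.lift_fac]; exact h1
    · rw [← cancel_mono U.ι, Category.assoc, morphismRestrict_ι, ← Category.assoc,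
        IsOpenImmersion.lift_fac, Category.assoc]
      exact h1.w
  rw [← sq.isoPullback_hom_snd]
  exact isProjective_iso_comp _ (Groth.Agent.S4421.result _ hp _)

theorem isProjective_comp [CompactSpace S] [QuasiSeparatedSpace S] {Y : Scheme.{u}}
    (f : X ⟶ Y) (g : Y ⟶ S) (hf : RelProj.IsProjective f) (hg : RelProj.IsProjective g) :
    RelProj.IsProjective (f ≫ g) := by
  haveI := QuotProj11.isProper_of_isProjective hf
  haveI := QuotProj11.isProper_of_isProjective hg
  obtain ⟨L, hL, hLva⟩ := VA11.isRelVeryAmple_of_isProjective hf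
  obtain ⟨K, hK, hKva⟩ := VA11.isRelVeryAmple_of_isProjective hg
  obtain ⟨n₀, -, hn⟩ := Groth.Agent.S12473.result f g L hL hLva K hK hKva
  exact VA11.isProjective_of_isProper_of_isRelVeryAmple (hn n₀ le_rfl)

end Groth.Agent.HProj12
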