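import Groth.Prelude.Def_RelProj
import Groth.Agent.Lib.ProjSpace.BaseChange
import Groth.Agent.Lib.Chow13.ProjProd

/-!
# H-projective morphisms: base change and composition
-/

set_option autoImplicit false
set_option backward.isDefEq.respectTransparency false
set_option backward.isDefEq.respectTransparency.types false

universe u

open CategoryTheory Limits AlgebraicGeometry

namespace Groth.Agent.HProj12

theorem isHProjective_baseChange {X S S' : Scheme.{u}} (f : X ⟶ S) (hf : RelProj.IsHProjective f) (g : S' ⟶ S) :
    RelProj.IsHProjective (pullback.snd f g) := by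
  obtain ⟨n, i, hi, hif⟩ := hf
  have sq := ProjSpace.isPullback_overMap n g
  let i' : pullback f g ⟶ CohB1.ProjSpaceOver n S' := sq.lift (pullback.fst f g ≫ i) (pullback.snd f g)
    (by rw [Category.assoc, hif, pullback.condition])
  refine ⟨n, i', ?_, sq.lift_snd _ _ _⟩
  have h : IsPullback (pullback.fst f g) i' i (ProjSpace.overMap n g) := by
    refine IsPullback.of_bot ?_ (sq.lift_fst _ _ _).symm sq
    rw [sq.lift_snd, hif]
    exact IsPullback.of_hasPullback f g
  exact MorphismProperty.of_isPullback h.flip.flip hi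

theorem isHProjective_comp {X Y Z : Scheme.{u}} (f : X ⟶ Y) (g : Y ⟶ Z)
    (hf : RelProj.IsHProjective f) (hg : RelProj.IsHProjective g) : RelProj.IsHProjective (f ≫ g) := by
  obtain ⟨n, i, hi, hif⟩ := hf
  obtain ⟨m, j, hj, hjg⟩ := hg
  have sq := ProjSpace.isPullback_overMap n g
  obtain ⟨N, φ, hφ, hφb⟩ := Chow13.exists_segreOver Z n m
  let bn := CohB1.ProjSpaceOver.toBase n Z
  let bm := CohB1.ProjSpaceOver.toBase m Z
  let t : CohB1.ProjSpaceOver n Y ⟶ pullback bn bm :=
    pullback.lift (ProjSpace.overMap n g) (CohB1.ProjSpaceOver.toBase n Y ≫ j)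
      (by rw [Category.assoc, hjg]; exact sq.w)
  have ht : IsPullback t (CohB1.ProjSpaceOver.toBase n Y) (pullback.snd bn bm) j := by
    refine IsPullback.of_right ?_ (pullback.lift_snd _ _ _) (IsPullback.of_hasPullback bn bm)
    rw [pullback.lift_fst, hjg]
    exact sq
  haveI : IsClosedImmersion t := MorphismProperty.of_isPullback ht.flip hj
  haveI : IsClosedImmersion (t ≫ φ) := inferInstance
  refine ⟨N, i ≫ t ≫ φ, inferInstance, ?_⟩
  simp only [Category.assoc, hφb]
  rw [← Category.assoc t, pullback.lift_fst, sq.w, ← Category.assoc i, hif]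

end Groth.Agent.HProj12
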